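import Mathlib
import Groth.Agent.S0549
import Groth.Agent.Cohen12.Completion
import Groth.Agent.Henz21.KrasnerGen
import Groth.Agent.Henz21.FiniteLocal
import Groth.Agent.WE91.LocalIntegral

/-!
# Finite separable extensions of the completion of a discretely valued field come from the field
-/

set_option autoImplicit false
set_option maxHeartbeats 800000
universe u

open scoped TensorProduct
open Polynomial IsLocalRing

namespace Krasner24

variable (A K : Type u) [CommRing A] [IsDomain A] [IsDiscreteValuationRing A] [Field K]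
  [Algebra A K] [IsFractionRing A K]

/-- Krasner-type descent. -/
theorem exists_descent (Kh : Type u) [Field Kh] [Algebra (AdicCompletion (maximalIdeal A) A) Kh]
    [IsFractionRing (AdicCompletion (maximalIdeal A) A) Kh] [Algebra A Kh] [Algebra K Kh]
    [IsScalarTower A (AdicCompletion (maximalIdeal A) A) Kh] [IsScalarTower A K Kh]
    (M : Type u) [Field M] [Algebra Kh M] [FiniteDimensional Kh M] [Algebra.IsSeparable Kh M] :
    ∃ (L : Type u) (_ : Field L) (_ : Algebra K L), FiniteDimensional K L ∧ Algebra.IsSeparable K L ∧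
      Nonempty ((Kh ⊗[K] L) ≃ₐ[Kh] M) := by
  classical
  let Ah := AdicCompletion (maximalIdeal A) A
  obtain ⟨hdom, hdvr⟩ := (Groth.Agent.S0549.result A).mp ⟨inferInstance, inferInstance⟩
  have : IsAdicComplete (maximalIdeal Ah) Ah := Groth.Agent.Cohen12.isAdicComplete_completion A
  have : HenselianLocalRing Ah := Groth.Agent.EtAlg23.henselianLocalRing_of_henselianRing Ah
  obtain ⟨ϖ, hϖ⟩ := IsDiscreteValuationRing.exists_irreducible Ah
  let _ : Algebra Ah M := ((algebraMap Kh M).comp (algebraMap Ah Kh)).toAlgebra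
  have : IsScalarTower Ah Kh M := IsScalarTower.of_algebraMap_eq fun _ => rfl
  let B := integralClosure Ah M
  have : Module.Finite Ah B := IsIntegralClosure.finite Ah Kh M B
  have : IsLocalRing B := Groth.Agent.WE91.isLocalRing_of_isIntegral_of_isDomain Ah B
  have : HenselianLocalRing B := Groth.Agent.Henz21.henselianLocalRing_of_isIntegral (A := Ah) (B := B)
  obtain ⟨θ, e, hcond, b₀, hb₀⟩ :=
    Groth.Agent.Henz21.exists_generator_conductor ϖ hϖ Kh M (B := B)
  set f := minpoly Ah θ with hf
  have hfmonic : f.Monic := minpoly.monic (Algebra.IsIntegral.isIntegral θ)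
  set d := f.natDegree
  -- approximation
  have happrox : ∀ c : Ah, ∃ a : A, ϖ ^ (2 * e + 2) ∣ c - algebraMap A Ah a := fun c => by
    obtain ⟨a, ha⟩ := Groth.Agent.Cohen12.exists_sub_mem_pow A (2 * e + 2) c
    rw [(IsDiscreteValuationRing.irreducible_iff_uniformizer ϖ).mp hϖ, Ideal.span_singleton_pow,
      Ideal.mem_span_singleton] at ha
    exact ⟨a, ha⟩
  choose a ha using fun i => happrox (f.coeff i)
  set g : A[X] := X ^ d + ∑ i ∈ Finset.range d, C (a i) * X ^ i with hg
  have hgmonic : g.Monic := monic_X_pow_add (by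
    rw [← Fin.sum_univ_eq_sum_range (fun i => C (a i) * X ^ i) d]
    exact degree_sum_fin_lt _)
  have hgdeg : g.natDegree = d := by
    refine natDegree_eq_of_degree_eq_some ?_
    rw [hg, degree_add_eq_left_of_degree_lt (by
      rw [degree_X_pow, ← Fin.sum_univ_eq_sum_range (fun i => C (a i) * X ^ i) d]
      exact degree_sum_fin_lt _), degree_X_pow]
  set gh : Ah[X] := g.map (algebraMap A Ah) with hgh
  have hdvd : C (ϖ ^ (2 * e + 2)) ∣ gh - f := by
    rw [C_dvd_iff_dvd_coeff]
    intro i
    rw [coeff_sub, hgh, coeff_map]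
    rcases lt_trichotomy i d with hi | hi | hi
    · have : g.coeff i = a i := by
        rw [hg, coeff_add, coeff_X_pow, if_neg hi.ne, zero_add, finsetSum_coeff]
        simp [coeff_X_pow, hi]
      rw [this, ← neg_sub, dvd_neg]
      exact ha i
    · subst hi
      rw [show g.coeff d = 1 from hgdeg ▸ hgmonic.coeff_natDegree, map_one,
        show f.coeff d = 1 from hfmonic.coeff_natDegree, sub_self]
      exact dvd_zero _
    · rw [coeff_eq_zero_of_natDegree_lt (hgdeg ▸ hi), coeff_eq_zero_of_natDegree_lt hi, map_zero,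
        sub_zero]
      exact dvd_zero _
  obtain ⟨r, hr⟩ := hdvd
  have hghf : gh = f + C (ϖ ^ (2 * e + 2)) * r := by rw [← hr]; ring
  -- Newton
  let π : B := algebraMap Ah B ϖ
  have hϖM : algebraMap Ah M ϖ ≠ 0 := by
    rw [IsScalarTower.algebraMap_apply Ah Kh M]
    exact (map_ne_zero_iff _ (algebraMap Kh M).injective).mpr
      ((map_ne_zero_iff _ (IsFractionRing.injective Ah Kh)).mpr hϖ.ne_zero)
  have hπ : π ∈ maximalIdeal B := by
    have h1 : (maximalIdeal B).comap (algebraMap Ah B) = maximalIdeal Ah :=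
      eq_maximalIdeal (Ideal.isMaximal_comap_of_isIntegral_of_isMaximal _)
    rw [← Ideal.mem_comap, h1, mem_maximalIdeal]
    exact hϖ.not_isUnit
  have hgθ : (gh.map (algebraMap Ah B)).eval θ = π ^ (2 * e + 2) * aeval θ r := by
    rw [eval_map_algebraMap, hghf, map_add, map_mul, aeval_C, hf, minpoly.aeval, zero_add, map_pow]
  have hgθ' : ∃ w, (gh.map (algebraMap Ah B)).derivative.eval θ * b₀ = π ^ e * (1 + π * w) := by
    refine ⟨π ^ (e + 1) * (aeval θ (derivative r) * b₀), ?_⟩
    rw [derivative_map, eval_map_algebraMap, hghf, derivative_add, derivative_C_mul, map_add, map_mul,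
      aeval_C, add_mul, hb₀, map_pow, map_pow]
    ring
  obtain ⟨w, hw⟩ := hgθ'
  have hunit : IsUnit (1 + π * w) := by
    have h := isUnit_one_sub_self_of_mem_nonunits (-(π * w)) ((mem_maximalIdeal _).mp
      ((maximalIdeal B).neg_mem ((maximalIdeal B).mul_mem_right _ hπ)))
    rwa [sub_neg_eq_add] at h
  obtain ⟨ξ, hξ, hξθ⟩ := Groth.Agent.Henz21.exists_root_near (gh.map (algebraMap Ah B)) π θ
    (b₀ * ↑hunit.unit⁻¹) (aeval θ r) e hπ
    (by rw [← mul_assoc, hw, mul_assoc, hunit.mul_val_inv, mul_one]) hgθ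
  -- `ξ` generates
  let ξM : M := algebraMap B M ξ
  let N : Submodule Ah B := (((Algebra.adjoin Kh ({ξM} : Set M)).restrictScalars Ah).comap
    (IsScalarTower.toAlgHom Ah B M)).toSubmodule
  have hN : (⊤ : Submodule Ah B) ≤ N := by
    refine Submodule.le_of_le_smul_of_le_jacobson_bot Module.Finite.fg_top
      (maximalIdeal_le_jacobson ⊥) fun b _ => ?_
    obtain ⟨q, hq⟩ := hcond b
    obtain ⟨c, hc⟩ := hξθ
    obtain ⟨c', hc'⟩ := sub_dvd_eval_sub ξ θ (q.map (algebraMap Ah B))
    rw [eval_map_algebraMap, eval_map_algebraMap, hq, hc] at hc'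
    have hqξ : aeval ξ q = algebraMap Ah B (ϖ ^ e) * (b + π * (c * c')) := by
      rw [eq_add_of_sub_eq hc', map_pow]
      ring
    have hmemN : b + π * (c * c') ∈ N := by
      show algebraMap B M (b + π * (c * c')) ∈ Algebra.adjoin Kh ({ξM} : Set M)
      have h1 := congrArg (algebraMap B M) hqξ
      rw [← aeval_algebraMap_apply, map_mul, ← IsScalarTower.algebraMap_apply Ah B M] at h1
      have h2 : algebraMap B M (b + π * (c * c')) =
          algebraMap Kh M (algebraMap Ah Kh (ϖ ^ e))⁻¹ * aeval ξM q := by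
        rw [h1, IsScalarTower.algebraMap_apply Ah Kh M, ← mul_assoc ((algebraMap Kh M) _), ← map_mul, inv_mul_cancel₀,
          map_one, one_mul]
        exact (map_ne_zero_iff _ (IsFractionRing.injective Ah Kh)).mpr (pow_ne_zero _ hϖ.ne_zero)
      rw [h2, ← aeval_map_algebraMap Kh]
      exact mul_mem (Subalgebra.algebraMap_mem _ _) (aeval_mem_adjoin_singleton Kh ξM)
    rw [show b = (b + π * (c * c')) + (-(ϖ • (c * c'))) by rw [Algebra.smul_def]; ring]
    refine Submodule.add_mem_sup hmemN (Submodule.neg_mem _ (Submodule.smul_mem_smul ?_ trivial))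
    exact (mem_maximalIdeal _).mpr hϖ.not_isUnit
  have htop : Algebra.adjoin Kh ({ξM} : Set M) = ⊤ := by
    rw [eq_top_iff]
    intro x _
    obtain ⟨s, hs⟩ := IsIntegral.exists_multiple_integral_of_isLocalization (nonZeroDivisors Ah)
      (Rₘ := Kh) x (Algebra.IsIntegral.isIntegral x)
    have h1 : algebraMap B M ⟨_, hs⟩ ∈ Algebra.adjoin Kh ({ξM} : Set M) :=
      hN (Submodule.mem_top (x := (⟨_, hs⟩ : B)))
    have hs0 : algebraMap Ah Kh s ≠ 0 := IsFractionRing.to_map_ne_zero_of_mem_nonZeroDivisors s.2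
    have h2 : x = (algebraMap Ah Kh s)⁻¹ • algebraMap B M ⟨_, hs⟩ := by
      show x = (algebraMap Ah Kh s)⁻¹ • (s • x)
      rw [Submonoid.smul_def, ← algebraMap_smul Kh (s : Ah) x, inv_smul_smul₀ hs0]
    rw [h2]
    exact Subalgebra.smul_mem _ h1 _
  -- the minimal polynomial of `ξ`
  set gK : Kh[X] := g.map (algebraMap A Kh) with hgK
  have hgK' : gK = gh.map (algebraMap Ah Kh) := by
    rw [hgh, Polynomial.map_map, ← IsScalarTower.algebraMap_eq]
  have hroot : aeval ξM gK = 0 := by
    rw [hgK', aeval_map_algebraMap, aeval_algebraMap_apply, ← eval_map_algebraMap, hξ, map_zero]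
  have hdM : d ≤ Module.finrank Kh M := by
    have hmin : f = minpoly Ah (algebraMap B M θ) :=
      (minpoly.algebraMap_eq (IsIntegralClosure.algebraMap_injective B Ah M) θ).symm
    have hθint : IsIntegral Ah (algebraMap B M θ) := (Algebra.IsIntegral.isIntegral θ).algebraMap
    have := minpoly.natDegree_le (A := Kh) (algebraMap B M θ)
    rw [minpoly.isIntegrallyClosed_eq_field_fractions' Kh hθint,
      natDegree_map_eq_of_injective (IsFractionRing.injective Ah Kh), ← hmin] at this
    exact this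
  have hadjI : IntermediateField.adjoin Kh ({ξM} : Set M) = ⊤ := by
    refine top_le_iff.mp fun x _ => IntermediateField.algebra_adjoin_le_adjoin Kh _ ?_
    rw [htop]; trivial
  have hfr : (minpoly Kh ξM).natDegree = Module.finrank Kh M := by
    rw [← IntermediateField.adjoin.finrank (Algebra.IsIntegral.isIntegral ξM), hadjI,
      IntermediateField.finrank_top']
  have hgKmin : minpoly Kh ξM = gK := by
    refine (eq_of_monic_of_dvd_of_natDegree_le (minpoly.monic (Algebra.IsIntegral.isIntegral ξM))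
      (hgmonic.map _) (minpoly.dvd _ _ hroot) ?_).symm
    rw [natDegree_map_eq_of_injective (by
      rw [IsScalarTower.algebraMap_eq A K Kh]
      exact (algebraMap K Kh).injective.comp (IsFractionRing.injective A K)), hgdeg, hfr]
    exact hdM
  -- the field `L`
  let g₀ : K[X] := g.map (algebraMap A K)
  have hg₀ : g₀.map (algebraMap K Kh) = minpoly Kh ξM := by
    rw [hgKmin, hgK, Polynomial.map_map, ← IsScalarTower.algebraMap_eq]
  have : Fact (Irreducible g₀) := ⟨Polynomial.Monic.irreducible_of_irreducible_map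
    (algebraMap K Kh) g₀ (hgmonic.map _)
    (hg₀ ▸ minpoly.irreducible (Algebra.IsIntegral.isIntegral ξM))⟩
  have hg₀0 : g₀ ≠ 0 := (hgmonic.map _).ne_zero
  have hsep₀ : g₀.Separable := by
    rw [← separable_map (algebraMap K Kh), hg₀]
    exact Algebra.IsSeparable.isSeparable Kh ξM
  let pb := AdjoinRoot.powerBasis hg₀0
  have : FiniteDimensional K (AdjoinRoot g₀) := pb.finite
  have hsepL : Algebra.IsSeparable K (AdjoinRoot g₀) := by
    refine ⟨fun x => mem_separableClosure_iff.mp ?_⟩
    have h1 : IsSeparable K (AdjoinRoot.root g₀) :=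
      hsep₀.of_dvd (minpoly.dvd _ _ (by rw [AdjoinRoot.aeval_eq, AdjoinRoot.mk_self]))
    have hle : Algebra.adjoin K ({AdjoinRoot.root g₀} : Set (AdjoinRoot g₀)) ≤
        (separableClosure K (AdjoinRoot g₀)).toSubalgebra :=
      Algebra.adjoin_le (Set.singleton_subset_iff.mpr (mem_separableClosure_iff.mpr h1))
    exact hle (AdjoinRoot.adjoinRoot_eq_top (f := g₀) ▸ Algebra.mem_top)
  let _ : Algebra K M := ((algebraMap Kh M).comp (algebraMap K Kh)).toAlgebra
  have : IsScalarTower K Kh M := IsScalarTower.of_algebraMap_eq fun _ => rfl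
  have hξ₀ : aeval ξM g₀ = 0 := by
    rw [← aeval_map_algebraMap Kh, hg₀, minpoly.aeval]
  let φ : AdjoinRoot g₀ →ₐ[K] M := AdjoinRoot.liftAlgHom g₀ (Algebra.ofId K M) ξM
    (by rw [Algebra.toRingHom_ofId, ← aeval_def, hξ₀])
  have hφ : φ (AdjoinRoot.root g₀) = ξM := by simp [φ]
  let ψ : (Kh ⊗[K] AdjoinRoot g₀) →ₐ[Kh] M :=
    Algebra.TensorProduct.lift (Algebra.ofId Kh M) φ (fun x y => Commute.all _ _)
  have hψsurj : Function.Surjective ψ := by
    rw [← AlgHom.range_eq_top, eq_top_iff, ← htop]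
    exact Algebra.adjoin_le (Set.singleton_subset_iff.mpr ⟨(1 : Kh) ⊗ₜ AdjoinRoot.root g₀, by simp [ψ, hφ]⟩)
  have hψinj : Function.Injective ψ := by
    refine (LinearMap.injective_iff_surjective_of_finrank_eq_finrank (f := ψ.toLinearMap) ?_).mpr hψsurj
    rw [Module.finrank_baseChange, pb.finrank, AdjoinRoot.powerBasis_dim, ← hfr, ← hg₀,
      natDegree_map_eq_of_injective (algebraMap K Kh).injective]
  exact ⟨AdjoinRoot g₀, inferInstance, inferInstance, inferInstance, hsepL,
    ⟨AlgEquiv.ofBijective ψ ⟨hψinj, hψsurj⟩⟩⟩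

end Krasner24
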